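import Mathlib.RingTheory.Artinian.Module
import Mathlib.RingTheory.Nilpotent.Lemmas
import Mathlib.FieldTheory.IsAlgClosed.Basic
import Mathlib.LinearAlgebra.TensorProduct.Pi
import Mathlib.RingTheory.TensorProduct.Basic
import Mathlib.RingTheory.TensorProduct.Maps
import Mathlib.FieldTheory.Fixed
import Mathlib.LinearAlgebra.Dual.Lemmas

/-!
# Finite geometrically reduced algebras are split by an algebraically closed field
-/

set_option autoImplicit false

universe u

open TensorProduct

noncomputable section

namespace Groth.Agent.ResTorus23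

variable {K : Type u} [Field K] [IsAlgClosed K] {B : Type u} [CommRing B] [Algebra K B] [Module.Finite K B]

theorem finite_algHom : Finite (B →ₐ[K] K) := by
  have h : LinearIndependent K (fun φ : B →ₐ[K] K => φ.toLinearMap) := linearIndependent_toLinearMap K B K
  exact h.finite

/-- A reduced finite algebra over an algebraically closed field is a product of copies of the field. -/
theorem bijective_eval [IsReduced B] :
    Function.Bijective (fun (x : B) (φ : B →ₐ[K] K) => φ x) := by
  haveI := finite_algHom (K := K) (B := B)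
  haveI := Fintype.ofFinite (B →ₐ[K] K)
  let ev : B →ₗ[K] ((B →ₐ[K] K) → K) := LinearMap.pi fun φ => φ.toLinearMap
  classical
  change Function.Bijective ev
  constructor
  · rw [injective_iff_map_eq_zero]
    intro x hx
    haveI : IsArtinianRing B := IsArtinianRing.of_finite K B
    refine IsNilpotent.eq_zero ((mem_nilradical (x := x)).1 ?_)
    rw [nilradical_eq_sInf, Submodule.mem_sInf]
    intro (m : Ideal B) hm
    haveI : m.IsPrime := hm
    haveI : m.IsMaximal := IsArtinianRing.isMaximal_of_isPrime m
    letI := Ideal.Quotient.field m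
    let e : K ≃ₐ[K] B ⧸ m := AlgEquiv.ofBijective (Algebra.ofId K (B ⧸ m))
      (IsAlgClosed.algebraMap_bijective_of_isIntegral)
    have h0 : e.symm.toAlgHom.comp (Ideal.Quotient.mkₐ K m) x = 0 :=
      congrFun hx (e.symm.toAlgHom.comp (Ideal.Quotient.mkₐ K m))
    rw [← Ideal.Quotient.eq_zero_iff_mem]
    exact e.symm.injective (h0.trans (map_zero e.symm).symm)
  · rw [← LinearMap.dualMap_injective_iff, injective_iff_map_eq_zero]
    intro c hc
    have h := Fintype.linearIndependent_iff.1 (linearIndependent_toLinearMap K B K) (fun φ => c (Pi.single φ 1)) (by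
      refine LinearMap.ext fun x => ?_
      have h1 : c (ev x) = 0 := LinearMap.congr_fun hc x
      rw [← Finset.univ_sum_single (ev x), map_sum] at h1
      simp only [LinearMap.sum_apply, LinearMap.smul_apply, LinearMap.zero_apply, smul_eq_mul]
      refine Eq.trans ?_ h1
      refine Finset.sum_congr rfl fun φ _ => ?_
      rw [show (Pi.single φ (ev x φ) : (B →ₐ[K] K) → K) = ev x φ • Pi.single φ (1 : K) by rw [← Pi.single_smul, smul_eq_mul, mul_one],
        map_smul, smul_eq_mul, mul_comm]
      rfl)
    exact LinearMap.pi_ext' fun φ => LinearMap.ext_ring (by simpa using h φ)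

variable {k : Type u} [Field k] [Algebra k K] {L : Type u} [CommRing L] [Algebra k L] [Module.Finite k L]

/-- Restricting a character of the base change. -/
def res (φ : K ⊗[k] L →ₐ[K] K) : L →ₐ[k] K := (φ.restrictScalars k).comp Algebra.TensorProduct.includeRight

theorem res_bijective : Function.Bijective (res (k := k) (K := K) (L := L)) := by
  constructor
  · exact fun φ ψ h => Algebra.TensorProduct.ext (Subsingleton.elim _ _) h
  · exact fun σ => ⟨Algebra.TensorProduct.lift (AlgHom.id K K) σ (fun _ _ => Commute.all _ _),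
      AlgHom.ext fun l => by simp [res]⟩

theorem finite_algHom' : Finite (L →ₐ[k] K) := by
  haveI := finite_algHom (K := K) (B := K ⊗[k] L)
  exact Finite.of_surjective _ (res_bijective (k := k) (K := K) (L := L)).2

variable (A : Type u) [CommRing A] [Algebra K A] [Algebra k A] [IsScalarTower k K A]

/-- Evaluation at all the characters. -/
def evAll : A ⊗[k] L →ₐ[k] ((L →ₐ[k] K) → A) :=
  Algebra.TensorProduct.lift (AlgHom.pi fun _ => AlgHom.id k A)
    (AlgHom.pi fun σ => (IsScalarTower.toAlgHom k K A).comp σ) fun _ _ => Commute.all _ _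

theorem evAll_tmul (a : A) (l : L) (σ : L →ₐ[k] K) : evAll (k := k) (K := K) (L := L) A (a ⊗ₜ[k] l) σ = a * algebraMap K A (σ l) := rfl

theorem bijective_evAll [IsReduced (K ⊗[k] L)] : Function.Bijective (evAll (k := k) (K := K) (L := L) A) := by
  classical
  haveI := finite_algHom' (k := k) (K := K) (L := L)
  haveI := Fintype.ofFinite (L →ₐ[k] K)
  let b : (K ⊗[k] L →ₐ[K] K) ≃ (L →ₐ[k] K) := Equiv.ofBijective _ res_bijective
  let e : K ⊗[k] L ≃ₗ[K] ((L →ₐ[k] K) → K) :=
    (LinearEquiv.ofBijective (LinearMap.pi fun φ : K ⊗[k] L →ₐ[K] K => φ.toLinearMap) bijective_eval).trans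
      (LinearEquiv.funCongrLeft K K b.symm)
  have he : ∀ l σ, e ((1 : K) ⊗ₜ[k] l) σ = σ l := fun l σ => AlgHom.congr_fun (b.apply_symm_apply σ) l
  let Φ : A ⊗[k] L ≃ₗ[K] ((L →ₐ[k] K) → A) :=
    ((TensorProduct.AlgebraTensorModule.cancelBaseChange k K K A L).symm.trans (TensorProduct.congr (LinearEquiv.refl K A) e)).trans
      (TensorProduct.piScalarRight K K A (L →ₐ[k] K))
  have hΦ : ∀ t, evAll (k := k) (K := K) (L := L) A t = Φ t := by
    intro t
    induction t with
    | zero => simp
    | add x y hx hy => rw [map_add, map_add, hx, hy]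
    | tmul a l =>
      funext σ
      rw [evAll_tmul]
      simp only [Φ, LinearEquiv.trans_apply, TensorProduct.AlgebraTensorModule.cancelBaseChange_symm_tmul,
        TensorProduct.congr_tmul, LinearEquiv.refl_apply, TensorProduct.piScalarRight_apply,
        TensorProduct.piScalarRightHom_tmul, he, Algebra.smul_def, mul_comm]
  rw [show (evAll (k := k) (K := K) (L := L) A : A ⊗[k] L → _) = Φ from funext hΦ]
  exact Φ.bijective

end Groth.Agent.ResTorus23
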