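import Groth.Agent.Lib.DualNorm23.Norm
import Groth.Agent.S17693
import Groth.Prelude.Def_WeilRes
import Groth.Prelude.Def_GmPts

/-!
# The Weil restriction of the multiplicative group and the direct image of the multiplicative group
-/

set_option autoImplicit false
set_option backward.isDefEq.respectTransparency.types false

universe u

open CategoryTheory CategoryTheory.Limits AlgebraicGeometry Opposite MonoidalCategory CartesianMonoidalCategory MonObj

noncomputable section

namespace Groth.Agent.ResTorus23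

open DualNorm23

variable {S : Scheme.{u}}

/-- A morphism of sheaves which is bijective on affine objects is an isomorphism. -/
theorem isIso_of_bijective_affine {F G : BigSite.Ab Scheme.fppfPrecoverage S} (φ : F ⟶ G)
    (h : ∀ (T : Over S), IsAffine T.left → Function.Bijective (φ.hom.app (op T))) : IsIso φ := by
  have key : ∀ T : Over S, Function.Bijective (φ.hom.app (op T)) := by
    intro T
    let V : T.left.affineOpens → Over S := fun U => Over.mk (U.1.ι ≫ T.hom)
    let a : ∀ U, V U ⟶ T := fun U => Over.homMk U.1.ι rfl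
    haveI : ∀ U, IsOpenImmersion (a U).left := fun U => inferInstanceAs (IsOpenImmersion U.1.ι)
    have hcov : ∀ z : T.left, ∃ U y, (a U).left y = z := fun z => by
      obtain ⟨_, ⟨U, hU, rfl⟩, hz, -⟩ := T.left.isBasis_affineOpens.exists_subset_of_mem_open (Set.mem_univ z) isOpen_univ
      exact ⟨⟨U, hU⟩, ⟨z, hz⟩, rfl⟩
    have hV : ∀ U, IsAffine (V U).left := fun U => U.2
    have hnat : ∀ {A B : Over S} (g : A ⟶ B) (x : F.obj.obj (op B)),
        φ.hom.app (op A) (F.obj.map g.op x) = G.obj.map g.op (φ.hom.app (op B) x) := fun g x =>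
      ConcreteCategory.congr_hom (φ.hom.naturality g.op) x
    constructor
    · intro x y e
      refine ext_cover F V a hcov fun U => (h _ (hV U)).1 ?_
      rw [hnat, hnat, e]
    · intro y
      choose x hx using fun U => (h (V U) (hV U)).2 (G.obj.map (a U).op y)
      have hinj : ∀ W : Over S, Function.Injective (φ.hom.app (op W)) := fun W u v e => by
        let V' : W.left.affineOpens → Over S := fun U => Over.mk (U.1.ι ≫ W.hom)
        let a' : ∀ U, V' U ⟶ W := fun U => Over.homMk U.1.ι rfl
        haveI : ∀ U, IsOpenImmersion (a' U).left := fun U => inferInstanceAs (IsOpenImmersion U.1.ι)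
        refine ext_cover F V' a' (fun z => ?_) fun U => (h (V' U) U.2).1 ?_
        · obtain ⟨_, ⟨U, hU, rfl⟩, hz, -⟩ := W.left.isBasis_affineOpens.exists_subset_of_mem_open (Set.mem_univ z) isOpen_univ
          exact ⟨⟨U, hU⟩, ⟨z, hz⟩, rfl⟩
        · rw [hnat, hnat, e]
      obtain ⟨z, hz, -⟩ := existsUnique_glue F V a hcov x fun i j W p q e => hinj W (by
        rw [hnat, hnat, hx, hx, map_map', map_map', e])
      exact ⟨z, ext_cover G V a hcov fun U => by rw [← hnat, hz, hx]⟩
  haveI : ∀ T, IsIso (φ.hom.app T) := fun T => (ConcreteCategory.isIso_iff_bijective _).2 (key T.unop)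
  haveI : IsIso φ.hom := NatIso.isIso_of_isIso_app φ.hom
  exact ⟨⟨⟨inv φ.hom⟩, Sheaf.hom_ext (IsIso.hom_inv_id φ.hom), Sheaf.hom_ext (IsIso.inv_hom_id φ.hom)⟩⟩

variable {S' : Scheme.{u}} (g : S' ⟶ S) {R : Over S} (q : Red.bc g R ⟶ Red.Gm S')

/-- The function of a point of a candidate Weil restriction of the multiplicative group. -/
def nu {T : Over S} (x : T ⟶ R) : Γ(((Over.pullback g).obj T).left, ⊤) := Red.gmFn (WeilRes.restr g q T x)

theorem isUnit_nu {T : Over S} (x : T ⟶ R) : IsUnit (nu g q x) := GmPts.isUnit_gmFn _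

theorem nu_comp {T T' : Over S} (t : T' ⟶ T) (x : T ⟶ R) :
    nu g q (t ≫ x) = ((Over.pullback g).map t).left.appTop (nu g q x) := by
  rw [nu, WeilRes.restr_comp]
  exact GmPts.gmFn_comp _ _

variable {g q} (hq : WeilRes.IsWeilRes g (Red.Gm S') R q)

include hq in
theorem nu_injective {T : Over S} {x y : T ⟶ R} (h : nu g q x = nu g q y) : x = y :=
  (hq T).1 (GmPts.gmFn_injective h)

include hq in
theorem exists_nu {T : Over S} {r : Γ(((Over.pullback g).obj T).left, ⊤)} (hr : IsUnit r) :
    ∃ x : T ⟶ R, nu g q x = r := by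
  obtain ⟨x, hx⟩ := (hq T).2 (GmPts.ptOfUnit hr.unit)
  exact ⟨x, by rw [nu, hx]; exact GmPts.gmFn_ptOfUnit _⟩

/-- The functor of groups represented by the Weil restriction. -/
def grpFun (g : S' ⟶ S) : (Over S)ᵒᵖ ⥤ GrpCat.{u} :=
  (Over.pullback g).op ⋙ yonedaGrpObj (Red.Gm S')

include hq in
theorem exists_grpObj : ∃ (_ : GrpObj R) (_ : IsCommMonObj R),
    ∀ {T : Over S} (x y : T ⟶ R), nu g q (x * y) = nu g q x * nu g q y := by
  let α : (grpFun g ⋙ forget GrpCat).RepresentableBy R :=
    { homEquiv := fun {T} => Equiv.ofBijective (WeilRes.restr g q T) (hq T)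
      homEquiv_comp := fun t x => WeilRes.restr_comp g q t x }
  let inst : GrpObj R := GrpObj.ofRepresentableBy R (grpFun g) α
  letI := inst
  have hμ : WeilRes.restr g q (R ⊗ R) μ[R] = (WeilRes.restr g q (R ⊗ R) (fst R R) : (Over.pullback g).obj (R ⊗ R) ⟶ Red.Gm S') *
      WeilRes.restr g q (R ⊗ R) (snd R R) := α.homEquiv.apply_symm_apply _
  have hmul : ∀ {T : Over S} (x y : T ⟶ R), nu g q (x * y) = nu g q x * nu g q y := by
    intro T x y
    unfold nu
    rw [Hom.mul_def, WeilRes.restr_comp, hμ, MonObj.comp_mul, ← WeilRes.restr_comp, ← WeilRes.restr_comp,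
      lift_fst, lift_snd]
    exact GmPts.gmFn_mul _ _
  refine ⟨inst, ?_, hmul⟩
  rw [isCommMonObj_iff_isMulCommutative]
  exact fun T => ⟨⟨fun x y => nu_injective hq (by rw [hmul, hmul, mul_comm])⟩⟩

variable {X : Scheme.{u}} {f : X ⟶ S} (π : X ⟶ S') (hπ : π ≫ g = f)

/-- The map `T ×_S X ⟶ T ×_S S'`. -/
def bcMap (T : Over S) : ((Over.pullback f).obj T).left ⟶ ((Over.pullback g).obj T).left :=
  pullback.lift (pullback.fst T.hom f) (pullback.snd T.hom f ≫ π) (by rw [Category.assoc, hπ]; exact pullback.condition)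

theorem bcMap_naturality {T T' : Over S} (t : T' ⟶ T) :
    ((Over.pullback f).map t).left ≫ bcMap π hπ T = bcMap π hπ T' ≫ ((Over.pullback g).map t).left := by
  apply pullback.hom_ext
  · simp [bcMap, pullback.lift_fst, pullback.lift_snd, pullback.lift_fst_assoc, pullback.lift_snd_assoc]
  · simp [bcMap, pullback.lift_fst, pullback.lift_snd, pullback.lift_fst_assoc, pullback.lift_snd_assoc]

include hq in
/-- The points of the Weil restriction are the direct image of the multiplicative group. -/
theorem nonempty_ptsIso [GrpObj R] [IsCommMonObj R]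
    (hmul : ∀ {T : Over S} (x y : T ⟶ R), nu g q (x * y) = nu g q x * nu g q y)
    (hbij : ∀ T : Over S, IsAffine T.left → Function.Bijective (bcMap π hπ T).appTop) :
    Nonempty (CGrpSh.pts Scheme.fppfPrecoverage R ≅ CGrpSh3.pushGm Scheme.fppfPrecoverage f) := by
  let val : ∀ {T : Over S}, (T ⟶ R) → (CGrpSh2.Gm Scheme.fppfPrecoverage X).obj.obj (op ((Over.pullback f).obj T)) :=
    fun {T} x => ULift.up (Additive.ofMul (GmPts.ptOfUnit ((isUnit_nu g q x).map (bcMap π hπ T).appTop.hom).unit))
  have hval : ∀ {T : Over S} (x : T ⟶ R), gv (val x) = (bcMap π hπ T).appTop (nu g q x) := fun x =>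
    GmPts.gmFn_ptOfUnit _
  let cη : CGrpSh.pts Scheme.fppfPrecoverage R ⟶ CGrpSh3.pushGm Scheme.fppfPrecoverage f :=
    ⟨{ app := fun T => AddCommGrpCat.ofHom (AddMonoidHom.mk' (fun x => val x.down.toMul) fun x y => gv_inj (by
          refine (hval _).trans ((?_ : _ = _).trans (gv_add _ _).symm)
          rw [hval, hval, ← map_mul, ← hmul]
          rfl))
       naturality := fun T T' t => AddCommGrpCat.ext fun x => gv_inj (by
          show gv (val (t.unop ≫ x.down.toMul)) =
            gv ((CGrpSh2.Gm Scheme.fppfPrecoverage X).obj.map ((Over.pullback f).map t.unop).op (val x.down.toMul))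
          rw [hval, gv_map, hval, nu_comp]
          show (bcMap π hπ (unop T')).appTop _ = _
          rw [← CommRingCat.comp_apply, ← CommRingCat.comp_apply, ← Scheme.Hom.comp_appTop,
            ← Scheme.Hom.comp_appTop, bcMap_naturality]) }⟩
  haveI : IsIso cη := isIso_of_bijective_affine cη fun T hT => by
    constructor
    · intro x y e
      have e' : (bcMap π hπ T).appTop (nu g q x.down.toMul) = (bcMap π hπ T).appTop (nu g q y.down.toMul) :=
        (hval _).symm.trans ((congrArg gv e).trans (hval _))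
      exact ULift.ext _ _ (congrArg Additive.ofMul (nu_injective hq ((hbij T hT).1 e')))
    · intro z
      obtain ⟨r, hr⟩ := (hbij T hT).2 (gv z)
      have hru : IsUnit r := by
        let e := RingEquiv.ofBijective (bcMap π hπ T).appTop.hom (hbij T hT)
        have : IsUnit (e r) := by rw [show e r = gv z from hr]; exact isUnit_gv z
        exact (MulEquiv.isUnit_map e).1 this
      obtain ⟨x, hx⟩ := exists_nu hq hru
      exact ⟨ULift.up (Additive.ofMul x), gv_inj ((hval _).trans (by rw [← hr, ← hx]; rfl))⟩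
  exact ⟨asIso cη⟩

end Groth.Agent.ResTorus23
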