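import Groth.Agent.Lib.ResTorus23.Alg
import Groth.Agent.Lib.ResTorus23.Cmp
import Groth.Agent.Lib.Rigid19.GammaProd
import Groth.Agent.Lib.TorPts21.FieldDescent
import Groth.Agent.Lib.QuadH13.RepScheme

/-!
# The Weil restriction of the multiplicative group along a geometrically reduced finite algebra is a torus
-/

set_option autoImplicit false
set_option linter.style.haveILetI false
set_option backward.isDefEq.respectTransparency.types false

universe u

open CategoryTheory CategoryTheory.Limits AlgebraicGeometry Opposite MonoidalCategory CartesianMonoidalCategory MonObj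
open TensorProduct
open Groth.Agent.DiagGL

noncomputable section

namespace Groth.Agent.ResTorus23

/-- Homomorphisms out of a free group of finite rank. -/
def lat {n : ℕ} {G : Type u} [CommGroup G] (u : Fin n → G) : Multiplicative (Fin n → ℤ) →* G where
  toFun a := ∏ i, u i ^ Multiplicative.toAdd a i
  map_one' := by simp
  map_mul' a b := by simp [zpow_add, Finset.prod_mul_distrib]

theorem lat_gen {n : ℕ} {G : Type u} [CommGroup G] (u : Fin n → G) (i : Fin n) :
    lat u (Multiplicative.ofAdd (Pi.single i 1)) = u i := by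
  simp [lat, Pi.single_apply, apply_ite]

theorem lat_ext {n : ℕ} {G : Type u} [CommGroup G] {c c' : Multiplicative (Fin n → ℤ) →* G}
    (h : ∀ i, c (Multiplicative.ofAdd (Pi.single i 1)) = c' (Multiplicative.ofAdd (Pi.single i 1))) : c = c' := by
  refine MonoidHom.ext fun a => ?_
  have e : a = ∏ i, Multiplicative.ofAdd (Pi.single i (1 : ℤ) : Fin n → ℤ) ^ Multiplicative.toAdd a i := by
    refine Multiplicative.toAdd.injective (funext fun j => ?_)
    simp [toAdd_prod, Finset.sum_apply, Pi.single_apply]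
  rw [e, map_prod, map_prod]
  exact Finset.prod_congr rfl fun i _ => by rw [map_zpow, map_zpow, h]

variable {k : Type u} [Field k] {L : Type u} [CommRing L] [Algebra k L] [Module.Finite k L]
variable (K : Type u) [Field K] [Algebra k K]

/-- The structure morphism of the finite algebra. -/
abbrev strL : Spec (CommRingCat.of L) ⟶ Spec (CommRingCat.of k) := Spec.map (CommRingCat.ofHom (algebraMap k L))

/-- The structure morphism of the field extension. -/
abbrev strK : Spec (CommRingCat.of K) ⟶ Spec (CommRingCat.of k) := Spec.map (CommRingCat.ofHom (algebraMap k K))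

variable {K}

/-- The section given by a character. -/
def sec (T : Over (Spec (CommRingCat.of K))) (σ : L →ₐ[k] K) :
    T.left ⟶ ((Over.pullback (strL (k := k) (L := L))).obj ((Over.map (strK (k := k) K)).obj T)).left :=
  pullback.lift (𝟙 _) (T.hom ≫ Spec.map (CommRingCat.ofHom σ.toRingHom)) (by
    show 𝟙 _ ≫ (T.hom ≫ strK K) = _
    rw [Category.id_comp, Category.assoc, ← Spec.map_comp, ← CommRingCat.ofHom_comp]
    exact congrArg (fun φ : k →+* K => T.hom ≫ Spec.map (CommRingCat.ofHom φ)) σ.comp_algebraMap.symm)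

theorem sec_fst (T : Over (Spec (CommRingCat.of K))) (σ : L →ₐ[k] K) :
    sec T σ ≫ pullback.fst ((Over.map (strK (k := k) K)).obj T).hom (strL (k := k) (L := L)) = 𝟙 _ :=
  pullback.lift_fst _ _ _

theorem sec_snd (T : Over (Spec (CommRingCat.of K))) (σ : L →ₐ[k] K) :
    sec T σ ≫ pullback.snd ((Over.map (strK (k := k) K)).obj T).hom (strL (k := k) (L := L)) =
      T.hom ≫ Spec.map (CommRingCat.ofHom σ.toRingHom) :=
  pullback.lift_snd _ _ _

theorem sec_naturality {T T' : Over (Spec (CommRingCat.of K))} (t : T' ⟶ T) (σ : L →ₐ[k] K) :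
    t.left ≫ sec T σ = sec T' σ ≫ ((Over.pullback (strL (k := k) (L := L))).map ((Over.map (strK (k := k) K)).map t)).left := by
  apply pullback.hom_ext
  · rw [Category.assoc, Category.assoc, sec_fst, WeilExist.bc_map_fst, ← Category.assoc, sec_fst]
    exact (Category.comp_id _).trans (Category.id_comp _).symm
  · rw [Category.assoc, Category.assoc, sec_snd, WeilExist.bc_map_snd, sec_snd, ← Category.assoc, Over.w t]

theorem bijective_sec [IsAlgClosed K] [IsReduced (K ⊗[k] L)] (T : Over (Spec (CommRingCat.of K))) [IsAffine T.left] :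
    Function.Bijective fun (r : Γ(((Over.pullback (strL (k := k) (L := L))).obj ((Over.map (strK (k := k) K)).obj T)).left, ⊤))
      (σ : L →ₐ[k] K) => (sec T σ).appTop r := by
  let W := (Over.map (strK (k := k) K)).obj T
  let Y := ((Over.pullback (strL (k := k) (L := L))).obj W).left
  haveI : IsAffine W.left := ‹_›
  haveI : IsAffineHom W.hom := isAffineHom_of_isAffine _
  have sq0 := Rigid19.isPushout_appTop (IsPullback.of_hasPullback W.hom (strL (k := k) (L := L)))
  let lY : Γ(T.left, ⊤) ⟶ Γ(Y, ⊤) := (pullback.fst W.hom (strL (k := k) (L := L))).appTop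
  let rY : CommRingCat.of L ⟶ Γ(Y, ⊤) :=
    (Scheme.ΓSpecIso (CommRingCat.of L)).inv ≫ (pullback.snd W.hom (strL (k := k) (L := L))).appTop
  let aA : CommRingCat.of K ⟶ Γ(T.left, ⊤) := (Scheme.ΓSpecIso (CommRingCat.of K)).inv ≫ T.hom.appTop
  letI : Algebra K Γ(T.left, ⊤) := aA.hom.toAlgebra
  letI : Algebra k Γ(T.left, ⊤) := (aA.hom.comp (algebraMap k K)).toAlgebra
  haveI : IsScalarTower k K Γ(T.left, ⊤) := .of_algebraMap_eq' rfl
  have hpo : IsPushout (CommRingCat.ofHom (algebraMap k Γ(T.left, ⊤))) (CommRingCat.ofHom (algebraMap k L)) lY rY := by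
    refine sq0.of_iso (Iso.refl _) (Iso.refl _) (Scheme.ΓSpecIso (CommRingCat.of L)) (Iso.refl _) ?_ ?_ ?_ ?_
    · simp only [Iso.refl_hom, Category.id_comp, Category.comp_id]
      show (Scheme.ΓSpecIso (CommRingCat.of k)).inv ≫ (T.hom ≫ strK K).appTop = CommRingCat.ofHom (algebraMap k K) ≫ aA
      rw [Scheme.Hom.comp_appTop, ← Scheme.ΓSpecIso_inv_naturality_assoc]
    · simp only [Iso.refl_hom, Category.id_comp, Category.assoc]
      rw [Scheme.ΓSpecIso_naturality, Iso.inv_hom_id_assoc]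
    · simp only [Iso.refl_hom, Category.id_comp, Category.comp_id]
      rfl
    · simp only [Iso.refl_hom, Category.comp_id, rY, Iso.hom_inv_id_assoc]
  letI : Algebra Γ(T.left, ⊤) Γ(Y, ⊤) := lY.hom.toAlgebra
  letI : Algebra L Γ(Y, ⊤) := rY.hom.toAlgebra
  letI : Algebra k Γ(Y, ⊤) := (CommRingCat.ofHom (algebraMap k Γ(T.left, ⊤)) ≫ lY).hom.toAlgebra
  haveI : IsScalarTower k Γ(T.left, ⊤) Γ(Y, ⊤) := .of_algebraMap_eq' rfl
  haveI : IsScalarTower k L Γ(Y, ⊤) := .of_algebraMap_eq' (congrArg CommRingCat.Hom.hom hpo.w)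
  haveI : Algebra.IsPushout k Γ(T.left, ⊤) L Γ(Y, ⊤) := CommRingCat.isPushout_iff_isPushout.mp hpo
  let e := Algebra.IsPushout.equiv k Γ(T.left, ⊤) L Γ(Y, ⊤)
  have key : ∀ t, (fun σ => (sec T σ).appTop (e t)) = evAll (k := k) (K := K) (L := L) Γ(T.left, ⊤) t := by
    intro t
    induction t with
    | zero => funext σ; simp
    | add x y hx hy => rw [map_add, map_add, ← hx, ← hy]; funext σ; rw [map_add]; rfl
    | tmul a l =>
      funext σ
      rw [evAll_tmul, Algebra.IsPushout.equiv_tmul, map_mul]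
      have h1 : (sec T σ).appTop (lY a) = a := by
        show (lY ≫ (sec T σ).appTop) a = a
        rw [← Scheme.Hom.comp_appTop, show sec T σ ≫ pullback.fst W.hom (strL (k := k) (L := L)) = 𝟙 _ from
          pullback.lift_fst _ _ _, Scheme.Hom.id_appTop]
        rfl
      have h2 : (sec T σ).appTop (rY l) = aA (σ l) := by
        show (rY ≫ (sec T σ).appTop) l = (CommRingCat.ofHom σ.toRingHom ≫ aA) l
        rw [Category.assoc, ← Scheme.Hom.comp_appTop, show sec T σ ≫ pullback.snd W.hom (strL (k := k) (L := L)) =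
          T.hom ≫ Spec.map (CommRingCat.ofHom σ.toRingHom) from pullback.lift_snd _ _ _, Scheme.Hom.comp_appTop,
          ← Scheme.ΓSpecIso_inv_naturality_assoc]
      exact congrArg₂ (· * ·) h1 h2
  have hb : Function.Bijective fun t => (fun σ => (sec T σ).appTop (e t)) := by
    rw [funext key]
    exact bijective_evAll _
  exact (Function.Bijective.of_comp_iff _ e.bijective).1 hb

theorem isTorus_of_isWeilRes [IsAlgClosed K] [IsReduced (K ⊗[k] L)] {R : Over (Spec (CommRingCat.of k))}
    {q : Red.bc (strL (k := k) (L := L)) R ⟶ Red.Gm (Spec (CommRingCat.of L))}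
    (hq : WeilRes.IsWeilRes (strL (k := k) (L := L)) (Red.Gm (Spec (CommRingCat.of L))) R q) [GrpObj R]
    (hmul : ∀ {T : Over (Spec (CommRingCat.of k))} (x y : T ⟶ R), nu strL q (x * y) = nu strL q x * nu strL q y) :
    Red.IsTorus R := by
  haveI := finite_algHom' (k := k) (K := K) (L := L)
  obtain ⟨n, ⟨b⟩⟩ := Finite.exists_equiv_fin (L →ₐ[k] K)
  let φ := strK (k := k) K
  let u : ∀ {T : Over (Spec (CommRingCat.of K))}, (T ⟶ Red.bc φ R) → Fin n → (Γ(T.left, ⊤))ˣ := fun {T} x i =>
    ((isUnit_nu strL q (fl φ R x)).map (sec T (b.symm i)).appTop.hom).unit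
  let ch : ∀ {T : Over (Spec (CommRingCat.of K))}, (T ⟶ Red.bc φ R) → (Multiplicative (Fin n → ℤ) →* Γ(T.left, ⊤)) :=
    fun {T} x => (Units.coeHom _).comp (lat (u x))
  have hu_comp : ∀ {T T' : Over (Spec (CommRingCat.of K))} (t : T' ⟶ T) (x : T ⟶ Red.bc φ R) (i : Fin n),
      u (t ≫ x) i = Units.map t.left.appTop.hom.toMonoidHom (u x i) := by
    intro T T' t x i
    refine Units.ext ?_
    show (sec T' (b.symm i)).appTop (nu strL q (fl φ R (t ≫ x))) = t.left.appTop ((sec T (b.symm i)).appTop (nu strL q (fl φ R x)))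
    rw [fl_comp, nu_comp, ← CommRingCat.comp_apply, ← CommRingCat.comp_apply, ← Scheme.Hom.comp_appTop,
      ← Scheme.Hom.comp_appTop, sec_naturality]
  have hnat : ∀ {T T' : Over (Spec (CommRingCat.of K))} (t : T' ⟶ T) (x : T ⟶ Red.bc φ R) (a : Multiplicative (Fin n → ℤ)),
      ch (t ≫ x) a = t.left.appTop (ch x a) := by
    intro T T' t x a
    show ((lat (u (t ≫ x)) a : (Γ(T'.left, ⊤))ˣ) : Γ(T'.left, ⊤)) = t.left.appTop ((lat (u x) a : (Γ(T.left, ⊤))ˣ) : Γ(T.left, ⊤))
    rw [show lat (u (t ≫ x)) = (Units.map t.left.appTop.hom.toMonoidHom).comp (lat (u x)) from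
      lat_ext fun i => by rw [MonoidHom.comp_apply, lat_gen, lat_gen, hu_comp]]
    rfl
  have humul : ∀ {T : Over (Spec (CommRingCat.of K))} (x y : T ⟶ Red.bc φ R) (i : Fin n), u (x * y) i = u x i * u y i := by
    intro T x y i
    refine Units.ext ?_
    show (sec T (b.symm i)).appTop (nu strL q (fl φ R (x * y))) = _
    rw [fl_mul, hmul, map_mul]
    rfl
  have hchmul : ∀ {T : Over (Spec (CommRingCat.of K))} (x y : T ⟶ Red.bc φ R) (a : Multiplicative (Fin n → ℤ)),
      ch (x * y) a = ch x a * ch y a := by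
    intro T x y a
    show ((lat (u (x * y)) a : (Γ(T.left, ⊤))ˣ) : Γ(T.left, ⊤)) = (lat (u x) a : (Γ(T.left, ⊤))ˣ) * (lat (u y) a : (Γ(T.left, ⊤))ˣ)
    rw [show lat (u (x * y)) = lat (u x) * lat (u y) from
      lat_ext fun i => by rw [MonoidHom.mul_apply, lat_gen, lat_gen, lat_gen, humul]]
    rfl
  have hgen : ∀ {T : Over (Spec (CommRingCat.of K))} (x : T ⟶ Red.bc φ R) (i : Fin n),
      ch x (Multiplicative.ofAdd (Pi.single i 1)) = (sec T (b.symm i)).appTop (nu strL q (fl φ R x)) := fun {T} x i => by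
    show ((lat (u x) _ : (Γ(T.left, ⊤))ˣ) : Γ(T.left, ⊤)) = _
    rw [lat_gen]
    rfl
  have hinj : ∀ T : Over (Spec (CommRingCat.of K)), IsAffine T.left → ∀ x y : T ⟶ Red.bc φ R,
      (∀ a, ch x a = ch y a) → x = y := by
    intro T hT x y h
    refine fl_injective φ R (nu_injective hq ((bijective_sec T).1 (funext fun σ => ?_)))
    have h1 := h (Multiplicative.ofAdd (Pi.single (b σ) 1))
    rwa [hgen, hgen, Equiv.symm_apply_apply] at h1
  have hsurj : ∀ T : Over (Spec (CommRingCat.of K)), IsAffine T.left → ∀ c : Multiplicative (Fin n → ℤ) →* Γ(T.left, ⊤),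
      ∃ x : T ⟶ Red.bc φ R, ch x = c := by
    intro T hT c
    obtain ⟨r, hr⟩ := (bijective_sec (k := k) (L := L) T).2 fun σ => c (Multiplicative.ofAdd (Pi.single (b σ) 1))
    have er : ∀ σ : L →ₐ[k] K, (sec T σ).appTop r = c (Multiplicative.ofAdd (Pi.single (b σ) 1)) := congrFun hr
    have hru : IsUnit r := by
      obtain ⟨r', hr'⟩ := (bijective_sec (k := k) (L := L) T).2 fun σ => c (Multiplicative.ofAdd (Pi.single (b σ) 1))⁻¹
      have e' : ∀ σ : L →ₐ[k] K, (sec T σ).appTop r' = c (Multiplicative.ofAdd (Pi.single (b σ) 1))⁻¹ := congrFun hr'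
      refine IsUnit.of_mul_eq_one r' ((bijective_sec T).1 (funext fun σ => ?_))
      show (sec T σ).appTop (r * r') = (sec T σ).appTop 1
      rw [map_mul, map_one, er σ, e' σ,
        ← map_mul, mul_inv_cancel, map_one]
    obtain ⟨y, hy⟩ := exists_nu hq hru
    obtain ⟨x, rfl⟩ := fl_surjective φ R y
    have hc : c.toHomUnits = lat (u x) := lat_ext fun i => Units.ext (by
      rw [lat_gen]
      show _ = (sec T (b.symm i)).appTop (nu strL q (fl φ R x))
      rw [hy, er (b.symm i), Equiv.apply_symm_apply]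
      rfl)
    exact ⟨x, MonoidHom.ext fun a => (congrArg (fun f : _ →* (Γ(T.left, ⊤))ˣ => ((f a : (Γ(T.left, ⊤))ˣ) : Γ(T.left, ⊤))) hc).symm⟩
  let C₀ := charsDS (Spec (CommRingCat.of K)) (Fin n → ℤ)
  obtain ⟨ψ, hψ⟩ := C₀.surj (ch (𝟙 (Red.bc φ R)))
  have hψx : ∀ {T : Over (Spec (CommRingCat.of K))} (x : T ⟶ Red.bc φ R), C₀.ch (x ≫ ψ) = ch x := fun x =>
    MonoidHom.ext fun a => by rw [C₀.nat, hψ, ← hnat, Category.comp_id]
  haveI : IsIso ψ.left := QuadH13.isIso_of_affine_points ψ.left fun A g => by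
    let T : Over (Spec (CommRingCat.of K)) := Over.mk (g ≫ (Red.DS (Spec (CommRingCat.of K)) (Fin n → ℤ)).hom)
    let y : T ⟶ Red.DS (Spec (CommRingCat.of K)) (Fin n → ℤ) := Over.homMk g rfl
    have hTA : IsAffine T.left := inferInstanceAs (IsAffine (Spec A))
    obtain ⟨x, hx⟩ := hsurj T hTA (C₀.ch y)
    have hxy : x ≫ ψ = y := C₀.inj fun a => by rw [hψx, hx]
    refine ⟨x.left, congrArg CommaMorphism.left hxy, fun g' hg' => ?_⟩
    let x' : T ⟶ Red.bc φ R := Over.homMk g' (by
      show g' ≫ (Red.bc φ R).hom = g ≫ _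
      rw [← hg', Category.assoc, Over.w ψ])
    have hx' : x' ≫ ψ = y := Over.OverMorphism.ext hg'
    exact congrArg CommaMorphism.left (hinj T hTA x' x fun a => by rw [← hψx, ← hψx, hx', hxy])
  haveI : IsIso ψ := by
    haveI : IsIso ((Over.forget _).map ψ) := ‹IsIso ψ.left›
    exact isIso_of_reflects_iso ψ (Over.forget _)
  let C : Chars (Fin n → ℤ) (Red.bc φ R) :=
    { ch := fun x => ch x
      nat := hnat
      mul := hchmul
      inj := fun {T} x y h => (cancel_mono ψ).1 (C₀.inj fun a => by rw [hψx, hψx, h])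
      surj := fun {T} c => by
        obtain ⟨y, hy⟩ := C₀.surj c
        exact ⟨y ≫ inv ψ, by rw [← hψx, Category.assoc, IsIso.inv_hom_id, Category.comp_id, hy]⟩ }
  exact TorPts21.isTorus_of_bc φ (TorPts21.isTorus_of_chars C)

end Groth.Agent.ResTorus23
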